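import Mathlib
import Cfsg.Agent.Lib.Forms.Max.HermFrame.Basic
import Cfsg.Agent.Lib.Forms.Max.HermFrame.Conj
import Cfsg.Agent.Lib.Forms.Max.HermFrame.Maximal

/-!
# The monomial subgroup of the three-dimensional special unitary group: elementary facts

A setting is a subgroup `M` of the special unitary group containing its monomial elements. We record the diagonal
elements, their number, and the homologies attached to the images of the first frame vector.
-/

set_option autoImplicit false
set_option linter.unusedSectionVars false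

namespace Cfsg.Agent.Forms.Max.SU3.Frame

open Matrix Cfsg.Agent.Classical.Unitary Cfsg.Agent.Forms.Max.HermFrame

variable {F : Type*} [Field F] [Fintype F] {q : ℕ}

local notation "Vec" => (Fin 3 → F)
local notation "H" => Cfsg.hermForm 3 F q
local notation "G" => (Cfsg.GU 3 F q ⊓ Cfsg.Geo.specialLinear (Fin 3) F)

/-- a subgroup of the special unitary group containing the monomial elements -/
structure Sup (F : Type*) [Field F] [Fintype F] (q : ℕ) where
  hF : Fintype.card F = q ^ 2
  M : Subgroup (GL (Fin 3) F)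
  le : M ≤ Cfsg.GU 3 F q ⊓ Cfsg.Geo.specialLinear (Fin 3) F
  mono : ∀ g ∈ Cfsg.GU 3 F q ⊓ Cfsg.Geo.specialLinear (Fin 3) F, Mon g → g ∈ M

/-- the third index -/
theorem exists_third : ∀ i l : Fin 3, i ≠ l → ∃ k, k ≠ i ∧ k ≠ l ∧ ∀ z, z = i ∨ z = l ∨ z = k := by decide

theorem perm_fix_zero : ∀ p : Equiv.Perm (Fin 3), p 0 = 0 → p = 1 ∨ p = Equiv.swap 1 2 := by decide

theorem univ_three {i j k : Fin 3} (hall : ∀ z, z = i ∨ z = j ∨ z = k) :
    (Finset.univ : Finset (Fin 3)) = {i, j, k} :=
  Finset.ext fun z => by simpa using hall z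

theorem sum_three {i j k : Fin 3} (hij : i ≠ j) (hik : i ≠ k) (hjk : j ≠ k)
    (hall : ∀ z, z = i ∨ z = j ∨ z = k) (f : Fin 3 → F) : ∑ z, f z = f i + f j + f k := by
  rw [univ_three hall, Finset.sum_insert (by simp [hij, hik]), Finset.sum_insert (by simp [hjk]),
    Finset.sum_singleton, add_assoc]

theorem prod_three {i j k : Fin 3} (hij : i ≠ j) (hik : i ≠ k) (hjk : j ≠ k)
    (hall : ∀ z, z = i ∨ z = j ∨ z = k) (f : Fin 3 → F) : ∏ z, f z = f i * f j * f k := by
  rw [univ_three hall, Finset.prod_insert (by simp [hij, hik]), Finset.prod_insert (by simp [hjk]),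
    Finset.prod_singleton, mul_assoc]

theorem prod_zero_one_two (f : Fin 3 → F) : ∏ z, f z = f 0 * f 1 * f 2 := Fin.prod_univ_three f

theorem nrm_pow (z : F) : nrm q z = z ^ (q + 1) := nrm_eq z

/-! ### Finite sets of scalars -/

open _root_.Classical in
/-- the scalars of norm one -/
noncomputable def mu (F : Type*) [Field F] [Fintype F] (q : ℕ) : Finset F :=
  Finset.univ.filter fun a : F => a ^ (q + 1) = 1

theorem mem_mu {a : F} : a ∈ mu F q ↔ a ^ (q + 1) = 1 := by simp [mu]

theorem card_mu (hF : Fintype.card F = q ^ 2) : (mu F q).card = q + 1 := by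
  classical
  rw [mu]
  convert card_n1 hF

open _root_.Classical in
/-- the entries of diagonal elements of determinant one -/
noncomputable def tor' (F : Type*) [Field F] [Fintype F] (q : ℕ) : Finset (Fin 3 → F) :=
  Finset.univ.filter fun a : Fin 3 → F => (∀ z, a z ^ (q + 1) = 1) ∧ ∏ z, a z = 1

theorem mem_tor' {a : Vec} : a ∈ tor' F q ↔ (∀ z, a z ^ (q + 1) = 1) ∧ ∏ z, a z = 1 := by simp [tor']

/-- an entry vector with two prescribed values -/
theorem exists_tor' {i j k : Fin 3} (hij : i ≠ j) (hik : i ≠ k) (hjk : j ≠ k)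
    (hall : ∀ z, z = i ∨ z = j ∨ z = k) {b c : F} (hb : b ^ (q + 1) = 1) (hc : c ^ (q + 1) = 1) :
    ∃ a ∈ tor' F q, a i = (b * c)⁻¹ ∧ a j = b ∧ a k = c := by
  classical
  refine ⟨fun z => if z = j then b else if z = k then c else (b * c)⁻¹, mem_tor'.2 ⟨fun z => ?_, ?_⟩, ?_, ?_, ?_⟩
  · show (if z = j then b else if z = k then c else (b * c)⁻¹) ^ (q + 1) = 1
    split_ifs
    · exact hb
    · exact hc
    · exact n1_inv (n1_mul hb hc)
  · rw [prod_three hij hik hjk hall]
    simp only [if_neg hij, if_neg hik, if_neg hjk.symm, if_true]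
    rw [mul_assoc, inv_mul_cancel₀ (mul_ne_zero (n1_ne_zero hb) (n1_ne_zero hc))]
  · simp [hij, hik]
  · simp
  · simp [hjk.symm]

theorem le_card_tor' (hF : Fintype.card F = q ^ 2) : (q + 1) * (q + 1) ≤ (tor' F q).card := by
  classical
  rw [← card_mu hF, ← Finset.card_product]
  have h : ∀ p : F × F, p ∈ mu F q ×ˢ mu F q → ∃ a ∈ tor' F q, a 1 = p.1 ∧ a 2 = p.2 := by
    intro p hp
    rw [Finset.mem_product, mem_mu, mem_mu] at hp
    obtain ⟨a, ha, -, h1, h2⟩ := exists_tor' (i := (0 : Fin 3)) (j := 1) (k := 2) (by decide) (by decide)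
      (by decide) (by decide) hp.1 hp.2
    exact ⟨a, ha, h1, h2⟩
  choose f hf h1 h2 using h
  refine Finset.card_le_card_of_injOn (fun p => if hp : p ∈ mu F q ×ˢ mu F q then f p hp else 0) ?_ ?_
  · intro p hp
    simp only [Finset.mem_coe] at hp ⊢
    rw [dif_pos hp]
    exact hf p hp
  · intro p hp p' hp' e
    simp only [Finset.mem_coe] at hp hp'
    simp only [dif_pos hp, dif_pos hp'] at e
    exact Prod.ext (by rw [← h1 p hp, ← h1 p' hp', e]) (by rw [← h2 p hp, ← h2 p' hp', e])

/-! ### Diagonal elements -/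

open _root_.Classical in
/-- the diagonal element with given entries -/
noncomputable def tor (q : ℕ) (a : Fin 3 → F) : GL (Fin 3) F :=
  if h : ∃ g : GL (Fin 3) F, g ∈ Cfsg.GU 3 F q ⊓ Cfsg.Geo.specialLinear (Fin 3) F ∧ IsMono g 1 a
  then h.choose else 1

theorem tor_spec (hF : Fintype.card F = q ^ 2) {a : Vec} (ha : a ∈ tor' F q) :
    tor q a ∈ G ∧ IsMono (tor q a) 1 a := by
  have h : ∃ g : GL (Fin 3) F, g ∈ G ∧ IsMono g 1 a := by
    obtain ⟨h1, h2⟩ := mem_tor'.1 ha
    obtain ⟨g, hg, hm, hd⟩ := exists_mono hF 1 a h1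
    refine ⟨g, ⟨hg, Aschbacher.mem_specialLinear.2 ?_⟩, hm⟩
    rw [hd, h2, Equiv.Perm.sign_one]
    simp
  rw [tor, dif_pos h]
  exact h.choose_spec

namespace Sup

variable (S : Sup F q)

theorem tor_mem {a : Vec} (ha : a ∈ tor' F q) : tor q a ∈ S.M :=
  S.mono _ (tor_spec S.hF ha).1 (tor_spec S.hF ha).2.mon

include S in
theorem tor_act {a : Vec} (ha : a ∈ tor' F q) (x : Vec) (z : Fin 3) : act (tor q a) x z = a z * x z := by
  rw [(tor_spec S.hF ha).2.eq_diag]

theorem H_act {g : GL (Fin 3) F} (hg : g ∈ S.M) (x y : Vec) : H (act g x) (act g y) = H x y :=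
  (S.le hg).1 x y

theorem det_eq {g : GL (Fin 3) F} (hg : g ∈ S.M) : (g : Matrix (Fin 3) (Fin 3) F).det = 1 :=
  Aschbacher.mem_specialLinear.1 (S.le hg).2

theorem H_bas_act {g : GL (Fin 3) F} (hg : g ∈ S.M) (x : Vec) (z : Fin 3) :
    H x (act g (bas z)) = act g⁻¹ x z := by
  rw [← H_bas_right S.hF (act g⁻¹ x) z, ← S.H_act hg (act g⁻¹ x) (bas z), act_act_inv]

include S in
/-- an element of the special unitary group fixing two frame vectors and the third frame line is trivial -/
theorem eq_of_two {m : GL (Fin 3) F} (hm : m ∈ G) {i j k : Fin 3} (hij : i ≠ j) (hik : i ≠ k) (hjk : j ≠ k)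
    (hall : ∀ z, z = i ∨ z = j ∨ z = k) {l : F} (hi : act m (bas i) = l • bas i)
    (hj : act m (bas j) = bas j) (hk : act m (bas k) = bas k) : m = 1 := by
  classical
  set a : Vec := Function.update (fun _ => (1 : F)) i l with ha
  have hmono : IsMono m 1 a := by
    intro z
    rw [Equiv.Perm.one_apply]
    rcases hall z with rfl | rfl | rfl
    · rw [ha, Function.update_self, hi]
    · rw [ha, Function.update_of_ne hij.symm, one_smul, hj]
    · rw [ha, Function.update_of_ne hik.symm, one_smul, hk]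
  have hl : l = 1 := by
    have h := det_mono S.hF hm.1 hmono
    rw [Aschbacher.mem_specialLinear.1 hm.2, Equiv.Perm.sign_one, prod_three hij hik hjk hall, ha, Function.update_self,
      Function.update_of_ne hij.symm, Function.update_of_ne hik.symm] at h
    simpa using h.symm
  refine ext_bas fun z => ?_
  rw [act_one]
  rcases hall z with rfl | rfl | rfl
  · rw [hi, hl, one_smul]
  · exact hj
  · exact hk

end Sup

end Cfsg.Agent.Forms.Max.SU3.Frame
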