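import Mathlib
import Cfsg.Agent.Lib.Forms.Max.SU3.Frame.Basic
import Cfsg.Agent.Lib.Forms.Max.SU3.Subspace

/-!
# A non-monomial member fixing a frame line

Such a member makes every isotropic vector orthogonal to that line a centre of a full transvection group: the double
coset of the diagonal subgroup is large, so the stabiliser of an isotropic point is large, and this forces the whole
group of transvections at that point.
-/

set_option autoImplicit false
set_option linter.unusedSectionVars false

namespace Cfsg.Agent.Forms.Max.SU3.Frame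

open Matrix Cfsg.Agent.Classical.Unitary Cfsg.Agent.Forms.Max.HermFrame
open Cfsg.Agent.Forms.Max.Unitary (centres centres_map centres_smul exists_tv)

variable {F : Type*} [Field F] [Fintype F] {q : ℕ}

local notation "Vec" => (Fin 3 → F)
local notation "H" => Cfsg.hermForm 3 F q
local notation "G" => (Cfsg.GU 3 F q ⊓ Cfsg.Geo.specialLinear (Fin 3) F)

/-- a map fixes a frame line -/
def Fix (i : Fin 3) (g : GL (Fin 3) F) : Prop := ∃ a : F, act g (bas i) = a • bas i

theorem Fix.ne_zero {i : Fin 3} {g : GL (Fin 3) F} {a : F} (h : act g (bas i) = a • bas i) : a ≠ 0 :=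
  fun e => mulVec_ne_zero g (bas_ne_zero i) (by show act g (bas i) = 0; rw [h, e, zero_smul])

theorem Fix.mul {i : Fin 3} {g h : GL (Fin 3) F} (hg : Fix i g) (hh : Fix i h) : Fix i (g * h) := by
  obtain ⟨a, ha⟩ := hg
  obtain ⟨b, hb⟩ := hh
  exact ⟨b * a, by rw [act_mul, hb, act, mulVec_smul, ← act, ha, smul_smul]⟩

theorem Fix.inv {i : Fin 3} {g : GL (Fin 3) F} (hg : Fix i g) : Fix i g⁻¹ := by
  obtain ⟨a, ha⟩ := hg
  refine ⟨a⁻¹, ?_⟩
  have h := act_inv_act g (bas i)
  rw [ha, act, mulVec_smul, ← act] at h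
  rw [← inv_smul_smul₀ (Fix.ne_zero ha) (act g⁻¹ (bas i)), h]

theorem act_smul (g : GL (Fin 3) F) (c : F) (x : Vec) : act g (c • x) = c • act g x := mulVec_smul _ _ _

theorem act_add (g : GL (Fin 3) F) (x y : Vec) : act g (x + y) = act g x + act g y := mulVec_add _ _ _

theorem card_traceless_le (hq : 2 ≤ q) [DecidableEq F] :
    (Finset.univ.filter fun c : F => c + c ^ q = 0).card ≤ q := by
  have hX : (Polynomial.X ^ q + Polynomial.X : Polynomial F) ≠ 0 := fun h => by
    have := congrArg (fun p => Polynomial.coeff p 1) h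
    simp [Polynomial.coeff_X_pow, show ¬ 1 = q by omega] at this
  have hsub : (Finset.univ.filter fun c : F => c + c ^ q = 0) ⊆
      (Polynomial.X ^ q + Polynomial.X : Polynomial F).roots.toFinset := by
    intro c hc
    rw [Finset.mem_filter] at hc
    rw [Multiset.mem_toFinset, Polynomial.mem_roots hX, Polynomial.IsRoot]
    simpa [add_comm] using hc.2
  refine (Finset.card_le_card hsub).trans ((Multiset.toFinset_card_le _).trans ?_)
  refine (Polynomial.card_roots' _).trans (Polynomial.natDegree_add_le_of_degree_le ?_ ?_)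
  · simp
  · rw [Polynomial.natDegree_X]; omega

namespace Sup

variable (S : Sup F q)

include S in
theorem fix_tor {a : Vec} (ha : a ∈ tor' F q) (i : Fin 3) : Fix i (tor q a) :=
  ⟨a i, by have := (tor_spec S.hF ha).2 i; simpa using this⟩

/-- every isotropic vector orthogonal to the fixed frame line is a centre -/
theorem line_centres (hq : 3 ≤ q) {i : Fin 3} {g : GL (Fin 3) F} (hg : g ∈ S.M) (hgi : Fix i g)
    (hnm : ¬ Mon g) (v : Vec) (hvi : H v (bas i) = 0) (hvv : H v v = 0) : v ∈ centres q S.M := by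
  classical
  have hF := S.hF
  obtain ⟨j, hj⟩ : ∃ j, ∀ m a, act g (bas j) ≠ a • bas m := by
    simp only [Mon] at hnm
    push Not at hnm
    exact hnm
  have hij : i ≠ j := fun h => by
    obtain ⟨a, ha⟩ := hgi
    exact hj i a (h ▸ ha)
  obtain ⟨k, hki, hkj, hall⟩ := exists_third i j hij
  have hik := hki.symm
  have hjk := hkj.symm
  -- members fixing the line keep its orthogonal plane
  have perp : ∀ h : GL (Fin 3) F, h ∈ S.M → Fix i h → ∀ x : Vec, x i = 0 → act h x i = 0 := by
    intro h hh hhi x hx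
    obtain ⟨a, ha⟩ := hhi
    have e := S.H_act hh x (bas i)
    rw [H_bas_right hF, ha, H_smul_right, H_bas_right hF, hx] at e
    exact (mul_eq_zero.1 e).resolve_left (pow_ne_zero _ (Fix.ne_zero ha))
  set x := act g (bas j) with hxdef
  have hxi : x i = 0 := perp g hg hgi _ (bas_ne hij)
  have hxj : x j ≠ 0 := fun h => hj k (x k) (funext fun z => by
    rcases hall z with rfl | rfl | rfl
    · rw [hxi]; simp [bas_ne hik]
    · rw [h]; simp [bas_ne hjk]
    · simp)
  have hxk : x k ≠ 0 := fun h => hj j (x j) (funext fun z => by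
    rcases hall z with rfl | rfl | rfl
    · rw [hxi]; simp [bas_ne hij]
    · simp
    · rw [h]; simp [bas_ne hkj])
  set T := tor' F q with hT
  set HH : Finset (GL (Fin 3) F) := Finset.univ.filter fun h => h ∈ S.M ∧ Fix i h with hHH
  have hmemHH : ∀ h, h ∈ HH ↔ h ∈ S.M ∧ Fix i h := fun h => by simp [hHH]
  -- the double coset of the diagonal subgroup
  have c1 : T.card * T.card ≤ HH.card * (q + 1) := by
    rw [← Finset.card_product, ← card_mu hF, ← Finset.card_product]
    refine Finset.card_le_card_of_injOn (fun p => (tor q p.1 * g * tor q p.2, p.1 j)) ?_ ?_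
    · rintro ⟨a, b⟩ hp
      simp only [Finset.coe_product, Set.mem_prod, Finset.mem_coe] at hp
      simp only [Finset.coe_product, Set.mem_prod, Finset.mem_coe, hmemHH, mem_mu]
      exact ⟨⟨mul_mem (mul_mem (S.tor_mem hp.1) hg) (S.tor_mem hp.2),
        ((S.fix_tor hp.1 i).mul hgi).mul (S.fix_tor hp.2 i)⟩, (mem_tor'.1 hp.1).1 j⟩
    · rintro ⟨a, b⟩ hp ⟨a', b'⟩ hp' e
      simp only [Finset.coe_product, Set.mem_prod, Finset.mem_coe] at hp hp'
      simp only [Prod.mk.injEq] at e
      obtain ⟨e, eaj⟩ := e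
      have key : ∀ a b : Vec, a ∈ T → b ∈ T → ∀ z, act (tor q a * g * tor q b) (bas j) z = b j * (a z * x z) := by
        intro a b ha hb z
        rw [act_mul, act_mul, show act (tor q b) (bas j) = b j • bas j by simpa using (tor_spec hF hb).2 j,
          act_smul, act_smul, Pi.smul_apply, smul_eq_mul, S.tor_act ha]
      have h1 := congrArg (fun h => act h (bas j) j) e
      have h2 := congrArg (fun h => act h (bas j) k) e
      simp only [key _ _ hp.1 hp.2, key _ _ hp'.1 hp'.2] at h1 h2
      rw [eaj] at h1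
      have ha'j : a' j ≠ 0 := n1_ne_zero ((mem_tor'.1 hp'.1).1 j)
      have hbj : b j = b' j := mul_right_cancel₀ (mul_ne_zero ha'j hxj) h1
      rw [hbj] at h2
      have hak : a k = a' k :=
        mul_right_cancel₀ hxk (mul_left_cancel₀ (n1_ne_zero ((mem_tor'.1 hp'.2).1 j)) h2)
      have haa : a = a' := by
        have h3 := (mem_tor'.1 hp.1).2
        have h4 := (mem_tor'.1 hp'.1).2
        rw [prod_three hij hik hjk hall, eaj, hak] at h3
        rw [prod_three hij hik hjk hall] at h4
        have hai : a i = a' i := mul_right_cancel₀ ha'j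
          (mul_right_cancel₀ (n1_ne_zero ((mem_tor'.1 hp'.1).1 k)) (h3.trans h4.symm))
        funext z
        rcases hall z with rfl | rfl | rfl
        exacts [hai, eaj, hak]
      subst haa
      have hbb := mul_left_cancel e
      refine Prod.ext rfl (funext fun z => ?_)
      have := congrArg (fun h => act h (bas z) z) hbb
      simpa [S.tor_act hp.2, S.tor_act hp'.2] using this
  -- an isotropic point of the plane
  obtain ⟨ξ, hξ⟩ := Unitary.exists_norm hF (d := (-1 : F)) (by
    rw [← HermStd.qHom_apply hF, map_neg, map_one])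
  have hξ0 : ξ ≠ 0 := fun h => by rw [h, mul_zero] at hξ; exact neg_ne_zero.2 one_ne_zero hξ.symm
  set u : Vec := bas j + ξ • bas k with hu
  have hui : u i = 0 := by simp [hu, bas_ne hij, bas_ne hik]
  have huj : u j = 1 := by simp [hu, bas_ne hjk]
  have huk : u k = ξ := by simp [hu, bas_ne hkj]
  have huu : H u u = 0 := by
    rw [H_self, sum_three hij hik hjk hall, hui, huj, huk]
    simp only [nrm, one_pow, zero_mul, zero_add, one_mul]
    linear_combination hξ
  have hHu : ∀ y : Vec, H y u = y j + ξ ^ q * y k := fun y => by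
    rw [hu, H_add_right hF, H_smul_right, H_bas_right hF, H_bas_right hF]
  -- any isotropic vector of the plane is a diagonal image of a multiple of `u`
  have orbit : ∀ y : Vec, y i = 0 → H y y = 0 → y ≠ 0 → ∃ a ∈ T, a j = 1 ∧
      y = y j • act (tor q a) u ∧ y j ≠ 0 ∧ a k = y k / (ξ * y j) := by
    intro y hyi hyy hy0
    rw [H_self, sum_three hij hik hjk hall, hyi] at hyy
    simp only [nrm, zero_mul, zero_add] at hyy
    have hyj : y j ≠ 0 := fun h => hy0 (funext fun z => by
      rcases hall z with rfl | rfl | rfl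
      · exact hyi
      · exact h
      · rw [h, zero_mul, zero_add] at hyy
        rcases mul_eq_zero.1 hyy with h' | h'
        exacts [h', eq_zero_of_pow_eq_zero h'])
    have hc : (y k / (ξ * y j)) ^ (q + 1) = 1 := by
      rw [div_pow, div_eq_one_iff_eq (pow_ne_zero _ (mul_ne_zero hξ0 hyj)), mul_pow,
        ← nrm_pow (y k), ← nrm_pow ξ, ← nrm_pow (y j)]
      simp only [nrm]
      linear_combination hyy - (y j * y j ^ q) * hξ
    obtain ⟨a, ha, -, haj, hak⟩ := exists_tor' hij hik hjk hall (b := (1 : F)) (one_pow _) hc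
    refine ⟨a, ha, haj, funext fun z => ?_, hyj, hak⟩
    rw [Pi.smul_apply, smul_eq_mul, S.tor_act ha]
    rcases hall z with rfl | rfl | rfl
    · rw [hyi, hui]; ring
    · rw [haj, huj]; ring
    · rw [hak, huk]; field_simp
  set ST : Finset (GL (Fin 3) F) := HH.filter fun h => ∃ s : F, act h u = s • u with hST
  have hmemST : ∀ h, h ∈ ST ↔ (h ∈ S.M ∧ Fix i h) ∧ ∃ s : F, act h u = s • u := fun h => by
    simp [hST, hmemHH]
  have himg : ∀ h : GL (Fin 3) F, h ∈ S.M → Fix i h →
      act h u i = 0 ∧ H (act h u) (act h u) = 0 ∧ act h u ≠ 0 := fun h h1 h2 =>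
    ⟨perp h h1 h2 u hui, by rw [S.H_act h1, huu], mulVec_ne_zero h fun e => by
      rw [e] at huj; exact zero_ne_one huj⟩
  have c2 : HH.card ≤ (q + 1) * ST.card := by
    have h : ∀ h : GL (Fin 3) F, h ∈ HH → ∃ a ∈ T, a j = 1 ∧ (tor q a)⁻¹ * h ∈ ST ∧ a k ∈ mu F q := by
      intro h hh
      obtain ⟨h1, h2⟩ := (hmemHH h).1 hh
      obtain ⟨e1, e2, e3⟩ := himg h h1 h2
      obtain ⟨a, ha, haj, hy, -, -⟩ := orbit _ e1 e2 e3
      refine ⟨a, ha, haj, (hmemST _).2 ⟨⟨mul_mem (inv_mem (S.tor_mem ha)) h1,
        (S.fix_tor ha i).inv.mul h2⟩, act h u j, ?_⟩, mem_mu.2 ((mem_tor'.1 ha).1 k)⟩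
      rw [act_mul]
      conv_lhs => rw [hy]
      rw [act_smul, act_inv_act]
    choose f hf hfj hfS hfk using h
    rw [← card_mu hF, ← Finset.card_product]
    refine Finset.card_le_card_of_injOn
      (fun h => if hh : h ∈ HH then (f h hh k, (tor q (f h hh))⁻¹ * h) else (0, h)) ?_ ?_
    · intro h hh
      simp only [Finset.mem_coe] at hh
      simp only [Finset.coe_product, Set.mem_prod, Finset.mem_coe, dif_pos hh]
      exact ⟨hfk h hh, hfS h hh⟩
    · intro h hh h' hh' e
      simp only [Finset.mem_coe] at hh hh'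
      simp only [dif_pos hh, dif_pos hh', Prod.mk.injEq] at e
      obtain ⟨ek, e⟩ := e
      have hff : f h hh = f h' hh' := by
        have h3 := (mem_tor'.1 (hf h hh)).2
        have h4 := (mem_tor'.1 (hf h' hh')).2
        rw [prod_three hij hik hjk hall, hfj, ek] at h3
        rw [prod_three hij hik hjk hall, hfj] at h4
        have hfi := mul_right_cancel₀ one_ne_zero
          (mul_right_cancel₀ (n1_ne_zero ((mem_tor'.1 (hf h' hh')).1 k)) (h3.trans h4.symm))
        funext z
        rcases hall z with rfl | rfl | rfl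
        exacts [hfi, by rw [hfj, hfj], ek]
      rw [hff] at e
      exact mul_left_cancel e
  -- the transvection values at `u`
  let P : F → Prop := fun c => c + c ^ q = 0 ∧ ∃ t ∈ S.M, ∀ y, act t y = y + (c * H y u) • u
  set V : Finset F := Finset.univ.filter P with hV
  have hmemV : ∀ c, c ∈ V ↔ P c := fun c => by simp [hV]
  have P0 : P 0 := ⟨by rw [zero_pow (q_ne_zero hF), add_zero], 1, one_mem _, fun y => by simp [act_one]⟩
  have Padd : ∀ c c', P c → P c' → P (c + c') := by
    rintro c c' ⟨hc, t, ht, htx⟩ ⟨hc', t', ht', htx'⟩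
    refine ⟨by rw [HermStd.add_pow_q hF]; linear_combination hc + hc', t * t', mul_mem ht ht', fun y => ?_⟩
    rw [act_mul, htx', htx, H_add_left, H_smul_left, huu, mul_zero, add_zero]
    module
  have Pneg : ∀ c, P c → P (-c) := by
    rintro c ⟨hc, t, ht, htx⟩
    refine ⟨by rw [← HermStd.qHom_apply hF, map_neg, HermStd.qHom_apply]; linear_combination -hc,
      t⁻¹, inv_mem ht, fun y => ?_⟩
    apply mulVec_inj t
    show act t (act t⁻¹ y) = act t (y + (-c * H y u) • u)
    rw [act_act_inv, htx, H_add_left, H_smul_left, huu, mul_zero, add_zero]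
    module
  -- the stabiliser of `u`
  set K0 : Finset (GL (Fin 3) F) := ST.filter fun h => act h u = u with hK0
  have c4 : K0.card ≤ V.card := by
    have key : ∀ h ∈ K0, P (act h (bas j) j - 1) ∧
        ∀ y, act h y = y + ((act h (bas j) j - 1) * H y u) • u := by
      intro h hh
      rw [hK0, Finset.mem_filter, hmemST] at hh
      obtain ⟨⟨⟨hh1, hh2⟩, -⟩, hhu⟩ := hh
      set y := act h (bas j) with hy
      have hyi : y i = 0 := perp h hh1 hh2 _ (bas_ne hij)
      obtain ⟨c, hc⟩ : ∃ c, c = y j - 1 := ⟨_, rfl⟩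
      rw [← hc]
      have h1 : y j + ξ ^ q * y k = 1 := by
        rw [← hHu, ← hhu, hy, S.H_act hh1, hHu, bas_self, bas_ne hkj]
        ring
      have hyk : y k = ξ * c := by
        rw [hc]
        linear_combination y k * hξ - ξ * h1
      have hct : c + c ^ q = 0 := by
        have e := S.H_act hh1 (bas j) (bas j)
        rw [← hy, H_bas_self hF, H_self, sum_three hij hik hjk hall, hyi, hyk,
          show y j = 1 + c by rw [hc]; ring] at e
        simp only [nrm, mul_pow, HermStd.add_pow_q hF, one_pow, zero_mul, zero_add] at e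
        linear_combination e - (c * c ^ q) * hξ
      obtain ⟨t, ht, htx⟩ := exists_tv hF huu hct
      have htj : act t (bas j) = y := by
        rw [act, htx, hHu, bas_self, bas_ne hkj, mul_zero, add_zero, mul_one]
        funext z
        rcases hall z with rfl | rfl | rfl
        · rw [hyi]; simp [hui, bas_ne hij]
        · rw [Pi.add_apply, Pi.smul_apply, huj, bas_self, hc]; simp
        · rw [Pi.add_apply, Pi.smul_apply, huk, bas_ne hkj, hyk, smul_eq_mul]; ring
      have htu : act t u = u := by rw [act, htx, huu, mul_zero, zero_smul, add_zero]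
      set m := t⁻¹ * h with hm
      have hmj : act m (bas j) = bas j := by rw [hm, act_mul, ← hy, ← htj, act_inv_act]
      have hmu : act m u = u := by
        rw [hm, act_mul, hhu]
        conv_lhs => rw [← htu]
        rw [act_inv_act]
      have hmk : act m (bas k) = bas k := by
        have e : bas k = ξ⁻¹ • (u - bas j) := by
          rw [hu, add_sub_cancel_left, smul_smul, inv_mul_cancel₀ hξ0, one_smul]
        rw [e, act_smul, act, mulVec_sub, ← act, ← act, hmu, hmj]
      obtain ⟨l, hl⟩ := hh2
      have hti : act t (bas i) = bas i := by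
        rw [act, htx, hHu, bas_ne hij.symm, bas_ne hki]
        simp
      have hmi : act m (bas i) = l • bas i := by
        rw [hm, act_mul, hl, act_smul]
        conv_lhs => rw [← hti]
        rw [act_inv_act]
      have hm1 : m = 1 :=
        S.eq_of_two (mul_mem (inv_mem ht) (S.le hh1)) hij hik hjk hall hmi hmj hmk
      have hth : h = t := by rw [hm, inv_mul_eq_one] at hm1; exact hm1.symm
      exact ⟨⟨hct, h, hh1, fun w => by rw [hth]; exact htx w⟩, fun w => by rw [hth]; exact htx w⟩
    refine Finset.card_le_card_of_injOn (fun h => act h (bas j) j - 1) ?_ ?_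
    · intro h hh
      simp only [Finset.mem_coe] at hh ⊢
      rw [hmemV]
      exact (key h hh).1
    · intro h hh h' hh' e
      simp only [Finset.mem_coe] at hh hh'
      refine gl_ext fun w => ?_
      have e' : act h (bas j) j - 1 = act h' (bas j) j - 1 := e
      show act h w = act h' w
      rw [(key h hh).2, (key h' hh').2, e']
  set A : Finset F := ST.image fun h => act h u j with hA
  have hcoef : ∀ h : GL (Fin 3) F, h ∈ ST → act h u = act h u j • u ∧ act h u j ≠ 0 := by
    intro h hh
    obtain ⟨⟨h1, h2⟩, s, hs⟩ := (hmemST h).1 hh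
    have hsj : act h u j = s := by rw [hs, Pi.smul_apply, huj, smul_eq_mul, mul_one]
    rw [hsj]
    exact ⟨hs, fun e => (himg h h1 h2).2.2 (by rw [hs, e, zero_smul])⟩
  have c3 : ST.card ≤ K0.card * A.card := by
    refine Finset.card_le_mul_card_image ST _ fun s hs => ?_
    obtain ⟨h0, hh0, rfl⟩ := Finset.mem_image.1 hs
    refine Finset.card_le_card_of_injOn (fun h => h0⁻¹ * h) ?_ fun a _ b _ e => mul_left_cancel e
    intro h hh
    simp only [Finset.mem_coe, Finset.mem_filter] at hh ⊢
    obtain ⟨hh, heq⟩ := hh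
    have hfix : act (h0⁻¹ * h) u = u := by
      rw [act_mul, (hcoef h hh).1, heq, ← (hcoef h0 hh0).1, act_inv_act]
    obtain ⟨⟨h1, h2⟩, -⟩ := (hmemST h).1 hh
    obtain ⟨⟨h3, h4⟩, -⟩ := (hmemST h0).1 hh0
    rw [hK0, Finset.mem_filter, hmemST]
    exact ⟨⟨⟨mul_mem (inv_mem h3) h1, h4.inv.mul h2⟩, 1, by rw [hfix, one_smul]⟩, hfix⟩
  -- the multipliers
  let Q : F → Prop := fun y => y ^ q = y ∧ ∀ c, P c → P (y * c)
  set R : Finset F := Finset.univ.filter Q with hR
  have hmemR : ∀ y, y ∈ R ↔ Q y := fun y => by simp [hR]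
  have hR0 : (0 : F) ∈ R := (hmemR 0).2 ⟨zero_pow (q_ne_zero hF), fun c _ => by rw [zero_mul]; exact P0⟩
  have c5 : A.card ≤ (q + 1) * (R.card - 1) := by
    have hsub : A.image (fun s => s ^ (q + 1)) ⊆ R.erase 0 := by
      intro y hy
      obtain ⟨s, hs, rfl⟩ := Finset.mem_image.1 hy
      obtain ⟨h, hh, rfl⟩ := Finset.mem_image.1 hs
      obtain ⟨⟨hh1, -⟩, -⟩ := (hmemST h).1 hh
      obtain ⟨hhu, hs0⟩ := hcoef h hh
      obtain ⟨s, hsdef⟩ : ∃ s, s = act h u j := ⟨_, rfl⟩
      rw [← hsdef] at hhu hs0 ⊢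
      have hsq : (s ^ (q + 1)) ^ q = s ^ (q + 1) := by
        rw [pow_succ, mul_pow, pow_qq hF, mul_comm]
      refine Finset.mem_erase.2 ⟨pow_ne_zero _ hs0, (hmemR _).2 ⟨hsq, ?_⟩⟩
      rintro c ⟨hc, t, ht, htx⟩
      refine ⟨by rw [mul_pow, hsq]; linear_combination s ^ (q + 1) * hc,
        h * t * h⁻¹, mul_mem (mul_mem hh1 ht) (inv_mem hh1), fun w => ?_⟩
      have hw : H (act h⁻¹ w) u = s ^ q * H w u := by
        rw [← S.H_act hh1 (act h⁻¹ w) u, act_act_inv, hhu, H_smul_right]
      rw [act_mul, act_mul, htx, act_add, act_smul, act_act_inv, hhu, hw, smul_smul]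
      congr 2
      rw [pow_succ]
      ring
    have hfib : ∀ y ∈ A.image (fun s => s ^ (q + 1)),
        (A.filter fun s => s ^ (q + 1) = y).card ≤ q + 1 := by
      intro y hy
      obtain ⟨s0, hs0, rfl⟩ := Finset.mem_image.1 hy
      obtain ⟨h0, hh0, rfl⟩ := Finset.mem_image.1 hs0
      refine (Finset.card_le_card_of_injOn (t := mu F q) (fun s => s / act h0 u j) ?_ ?_).trans (card_mu hF).le
      · intro s hs
        simp only [Finset.mem_coe, Finset.mem_filter] at hs ⊢
        rw [mem_mu, div_pow, hs.2, div_self (pow_ne_zero _ (hcoef h0 hh0).2)]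
      · intro a _ b _ e
        exact (div_left_inj' (hcoef h0 hh0).2).1 e
    calc A.card ≤ (q + 1) * (A.image fun s => s ^ (q + 1)).card := Finset.card_le_mul_card_image A _ hfib
      _ ≤ (q + 1) * (R.erase 0).card := Nat.mul_le_mul_left _ (Finset.card_le_card hsub)
      _ = (q + 1) * (R.card - 1) := by rw [Finset.card_erase_of_mem hR0]
  have full : ∀ c, c + c ^ q = 0 → P c := by
    by_contra hc
    push Not at hc
    obtain ⟨c₀, hc₀, hc₀P⟩ := hc
    have hRinv : ∀ y, Q y → y ≠ 0 → ∀ c, P (y * c) → P c := by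
      intro y hy hy0 c hyc
      have hinj : Function.Injective fun d : {d // P d} => (⟨y * d, hy.2 d d.2⟩ : {d // P d}) :=
        fun a b e => Subtype.ext (mul_left_cancel₀ hy0 (congrArg Subtype.val e))
      obtain ⟨d, hd⟩ := (Finite.injective_iff_surjective.1 hinj) ⟨y * c, hyc⟩
      exact mul_left_cancel₀ hy0 (congrArg Subtype.val hd) ▸ d.2
    have hle : R.card * V.card ≤ q := by
      rw [← Finset.card_product]
      refine le_trans (Finset.card_le_card_of_injOn (fun p => p.1 * c₀ + p.2) ?_ ?_)
        (card_traceless_le (F := F) (q := q) (by omega))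
      · rintro ⟨y, d⟩ hp
        simp only [Finset.coe_product, Set.mem_prod, Finset.mem_coe, hmemR, hmemV] at hp
        simp only [Finset.mem_coe, Finset.mem_filter, Finset.mem_univ, true_and]
        rw [HermStd.add_pow_q hF, mul_pow, hp.1.1]
        linear_combination y * hc₀ + hp.2.1
      · rintro ⟨y, d⟩ hp ⟨y', d'⟩ hp' e
        simp only [Finset.coe_product, Set.mem_prod, Finset.mem_coe, hmemR, hmemV] at hp hp'
        simp only at e
        have hd : P ((y - y') * c₀) := by
          rw [show (y - y') * c₀ = d' + -d by linear_combination e]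
          exact Padd _ _ hp'.2 (Pneg _ hp.2)
        have hQ : Q (y - y') := ⟨by rw [← HermStd.qHom_apply hF, map_sub, HermStd.qHom_apply,
          HermStd.qHom_apply, hp.1.1, hp'.1.1], fun c hc' => by
            rw [sub_mul, sub_eq_add_neg]; exact Padd _ _ (hp.1.2 c hc') (Pneg _ (hp'.1.2 c hc'))⟩
        have hyy : y = y' := by
          by_contra hne
          exact hc₀P (hRinv _ hQ (sub_ne_zero.2 hne) _ hd)
        subst hyy
        exact Prod.ext rfl (add_left_cancel e)
    -- the count
    have t1 := Nat.mul_le_mul (le_card_tor' hF) (le_card_tor' hF)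
    have t2 : (q + 1) * (q + 1) ≤ V.card * ((q + 1) * (R.card - 1)) := by
      have t3 : (q + 1) * (q + 1) * ((q + 1) * (q + 1)) ≤ (q + 1) * (q + 1) * ST.card :=
        calc _ ≤ HH.card * (q + 1) := t1.trans c1
          _ ≤ (q + 1) * ST.card * (q + 1) := Nat.mul_le_mul_right _ c2
          _ = _ := by ring
      have t4 : (q + 1) * (q + 1) ≤ ST.card := Nat.le_of_mul_le_mul_left t3 (by positivity)
      exact t4.trans (c3.trans (Nat.mul_le_mul c4 c5))
    have t5 : q + 1 ≤ V.card * (R.card - 1) :=
      Nat.le_of_mul_le_mul_left (by linarith [t2] : (q + 1) * (q + 1) ≤ (q + 1) * (V.card * (R.card - 1)))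
        (by omega)
    have t6 : V.card * (R.card - 1) ≤ R.card * V.card := by
      rw [Nat.mul_comm R.card]; exact Nat.mul_le_mul_left _ (Nat.sub_le _ _)
    omega
  have hcentre : u ∈ centres q S.M := by
    refine ⟨huu, fun h c hc hh => ?_⟩
    obtain ⟨-, t, ht, htx⟩ := full c hc
    rwa [gl_ext (g := h) (h := t) fun w => (hh w).trans (htx w).symm]
  have hvi' : v i = 0 := by rwa [H_bas_right hF] at hvi
  by_cases hv0 : v = 0
  · have h0 := centres_smul hF (0 : F) hcentre
    rw [zero_smul] at h0
    rwa [hv0]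
  · obtain ⟨a, ha, -, hy, -, -⟩ := orbit v hvi' hvv hv0
    rw [hy]
    exact centres_smul hF _ (centres_map hF S.le (S.tor_mem ha) hcentre)

end Sup

end Cfsg.Agent.Forms.Max.SU3.Frame
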