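import Mathlib
import Cfsg.Agent.Lib.Forms.Max.SU3.Frame.Line

/-!
# Products of diagonal elements and homologies

If no non-monomial member fixes a frame line, then multiplying diagonal elements by homologies at the images of the
first frame vector is injective up to scalars. Counting bounds the order of the homology group.
-/

set_option autoImplicit false
set_option linter.unusedSectionVars false

namespace Cfsg.Agent.Forms.Max.SU3.Frame

open Matrix Cfsg.Agent.Classical.Unitary Cfsg.Agent.Forms.Max.HermFrame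

variable {F : Type*} [Field F] [Fintype F] {q : ℕ}

local notation "Vec" => (Fin 3 → F)
local notation "H" => Cfsg.hermForm 3 F q
local notation "G" => (Cfsg.GU 3 F q ⊓ Cfsg.Geo.specialLinear (Fin 3) F)

/-- the difference of the two eigenvalues of a homology -/
def kap (β : F) : F := (β * β)⁻¹ - β

/-- the entries of a homology at the first frame vector -/
def dv (β : F) : Fin 3 → F := ![(β * β)⁻¹, β, β]

theorem dv_mem {β : F} (hβ : β ^ (q + 1) = 1) : dv β ∈ tor' F q := by
  refine mem_tor'.2 ⟨fun z => ?_, ?_⟩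
  · fin_cases z
    · exact n1_inv (n1_mul hβ hβ)
    · exact hβ
    · exact hβ
  · rw [prod_zero_one_two]
    show (β * β)⁻¹ * β * β = 1
    rw [mul_assoc, inv_mul_cancel₀ (mul_ne_zero (n1_ne_zero hβ) (n1_ne_zero hβ))]

/-- the homology at the image of the first frame vector -/
noncomputable def hom (q : ℕ) (g : GL (Fin 3) F) (β : F) : GL (Fin 3) F := g * tor q (dv β) * g⁻¹

/-- the first frame vector is moved off the frame -/
def Off (g : GL (Fin 3) F) : Prop := ∀ z (a : F), act g (bas 0) ≠ a • bas z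

theorem off_of_two {g : GL (Fin 3) F} {l m : Fin 3} (hlm : l ≠ m) (hl : act g (bas 0) l ≠ 0)
    (hm : act g (bas 0) m ≠ 0) : Off g := fun z a e => by
  rw [e] at hl hm
  rcases eq_or_ne l z with rfl | hlz
  · simp [bas_ne hlm.symm] at hm
  · simp [bas_ne hlz] at hl

namespace Sup

variable (S : Sup F q)

theorem hom_mem {g : GL (Fin 3) F} (hg : g ∈ S.M) {β : F} (hβ : β ^ (q + 1) = 1) : hom q g β ∈ S.M :=
  mul_mem (mul_mem hg (S.tor_mem (dv_mem hβ))) (inv_mem hg)

include S in
theorem act_tor_dv {β : F} (hβ : β ^ (q + 1) = 1) (y : Vec) :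
    act (tor q (dv β)) y = β • y + (kap β * y 0) • bas 0 := by
  funext z
  rw [S.tor_act (dv_mem hβ)]
  fin_cases z
  · show (β * β)⁻¹ * y 0 = _
    simp [kap]; ring
  · show β * y 1 = _
    simp
  · show β * y 2 = _
    simp

theorem act_hom {g : GL (Fin 3) F} (hg : g ∈ S.M) {β : F} (hβ : β ^ (q + 1) = 1) (x : Vec) :
    act (hom q g β) x = β • x + (kap β * H x (act g (bas 0))) • act g (bas 0) := by
  rw [hom, act_mul, act_mul, S.act_tor_dv hβ, act_add, act_smul, act_smul, act_act_inv, S.H_bas_act hg]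

theorem H_r {g : GL (Fin 3) F} (hg : g ∈ S.M) : H (act g (bas 0)) (act g (bas 0)) = 1 := by
  rw [S.H_act hg, H_bas_self S.hF]

/-- `s` fixes the vectors orthogonal to its centre up to a scalar -/
theorem hom_perp {g : GL (Fin 3) F} (hg : g ∈ S.M) {β : F} (hβ : β ^ (q + 1) = 1) {w : Vec}
    (hw : H w (act g (bas 0)) = 0) : act (hom q g β) w = β • w := by
  rw [S.act_hom hg hβ, hw, mul_zero, zero_smul, add_zero]

include S in
/-- a scalar of norm one with sixth power other than one -/
theorem exists_six (hq : 3 ≤ q) (hq5 : q ≠ 5) : ∃ β : F, β ^ (q + 1) = 1 ∧ β ^ 6 ≠ 1 := by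
  obtain ⟨a, ha, hmin⟩ := exists_gen S.hF
  refine ⟨a, ha, ?_⟩
  rcases Nat.lt_or_ge 6 (q + 1) with h | h
  · exact hmin 6 (by norm_num) h
  · have hcases : q = 3 ∨ q = 4 := by omega
    rcases hcases with rfl | rfl
    · rw [show a ^ 6 = a ^ (3 + 1) * a ^ 2 by ring, ha, one_mul]
      exact hmin 2 (by norm_num) (by norm_num)
    · rw [show a ^ 6 = a ^ (4 + 1) * a ^ 1 by ring, ha, one_mul]
      exact hmin 1 (by norm_num) (by norm_num)

variable (hgood : ∀ g ∈ S.M, ∀ i, Fix i g → Mon g)
include hgood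

/-- an image of a frame vector off the frame has no coordinate zero -/
theorem off_coord (hq : 3 ≤ q) (hq5 : q ≠ 5) {g : GL (Fin 3) F} (hg : g ∈ S.M) (hoff : Off g) (z : Fin 3) :
    act g (bas 0) z ≠ 0 := by
  intro hz
  have hF := S.hF
  set r := act g (bas 0) with hr
  obtain ⟨l, hzl⟩ := exists_ne z
  obtain ⟨m, hmz, hml, hall⟩ := exists_third z l hzl.symm
  have hrl : r l ≠ 0 := fun h => hoff m (r m) (funext fun y => by
    rw [← hr]
    rcases hall y with rfl | rfl | rfl
    · rw [hz]; simp [bas_ne hmz.symm]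
    · rw [h]; simp [bas_ne hml.symm]
    · simp)
  have hrm : r m ≠ 0 := fun h => hoff l (r l) (funext fun y => by
    rw [← hr]
    rcases hall y with rfl | rfl | rfl
    · rw [hz]; simp [bas_ne hzl.symm]
    · simp
    · rw [h]; simp [bas_ne hml])
  obtain ⟨β, hβ, hβ6⟩ := S.exists_six hq hq5
  have hβ0 : β ≠ 0 := n1_ne_zero hβ
  have hk : kap β ≠ 0 := fun h => by
    rw [kap, sub_eq_zero] at h
    have h' := mul_inv_cancel₀ (mul_ne_zero hβ0 hβ0)
    rw [h] at h'
    exact hβ6 (by linear_combination (β * β * β + 1) * h')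
  have hfix : Fix z (hom q g β) := ⟨β, S.hom_perp hg hβ (by rw [← hr, H_bas_left hF, hz, zero_pow (q_ne_zero hF)])⟩
  have hmon := hgood _ (S.hom_mem hg hβ) z hfix
  -- the two relevant diagonal entries vanish
  have key : ∀ a b : Fin 3, a ≠ b → r a ≠ 0 → r b ≠ 0 → β + kap β * (r a ^ q * r a) = 0 := by
    intro a b hab hra hrb
    obtain ⟨y, c, hy⟩ := hmon a
    rw [S.act_hom hg hβ, H_bas_left hF, ← hr] at hy
    have h1 := congrFun hy a
    have h2 := congrFun hy b
    simp only [Pi.add_apply, Pi.smul_apply, smul_eq_mul, bas_self, bas_ne hab.symm, mul_one, mul_zero,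
      zero_add] at h1 h2
    by_cases hyb : b = y
    · subst hyb
      rw [bas_ne hab, mul_zero] at h1
      linear_combination h1
    · rw [bas_ne hyb, mul_zero] at h2
      exact absurd h2 (mul_ne_zero (mul_ne_zero hk (pow_ne_zero _ hra)) hrb)
  have e1 := key l m hml.symm hrl hrm
  have e2 := key m l hml hrm hrl
  have hsum := S.H_r hg
  rw [← hr, H_self, sum_three hzl.symm hmz.symm hml.symm hall, hz] at hsum
  simp only [nrm, zero_mul, zero_add] at hsum
  have e3 : (β * β)⁻¹ = -β := by
    have h : 2 * β + kap β * 1 = 0 := by linear_combination e1 + e2 - kap β * hsum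
    rw [kap] at h
    linear_combination h
  have e4 := mul_inv_cancel₀ (mul_ne_zero hβ0 hβ0)
  rw [e3] at e4
  exact hβ6 (by linear_combination (-(β * β * β) + 1) * e4)

/-- a product of a diagonal element and a homology is a homology only for scalars -/
theorem no_coll (hq : 3 ≤ q) (hq5 : q ≠ 5) {g g' : GL (Fin 3) F} (hg : g ∈ S.M) (hg' : g' ∈ S.M)
    (hoff : Off g) (hoff' : Off g') {β β' : F} (hβ : β ^ (q + 1) = 1) (hβ' : β' ^ (q + 1) = 1)
    (hβ3 : β ^ 3 ≠ 1) {c : Vec} (hc : ∏ z, c z = 1)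
    (he : ∀ x z, act (hom q g' β') x z = c z * act (hom q g β) x z) :
    ∃ ω : F, ω ^ 3 = 1 ∧ (∀ z, c z = ω) ∧ β' = ω * β ∧ ∃ s : F, act g' (bas 0) = s • act g (bas 0) := by
  have hF := S.hF
  have hβ0 : β ≠ 0 := n1_ne_zero hβ
  set r := act g (bas 0) with hr
  set r' := act g' (bas 0) with hr'
  obtain ⟨w, hw, hw', hw0⟩ : ∃ w : Vec, H w r = 0 ∧ H w r' = 0 ∧ w ≠ 0 := by
    have hne := LinearMap.ker_ne_bot_of_finrank_lt (f := (hlin q r).prod (hlin q r'))
      (by rw [Module.finrank_prod, Module.finrank_self, Module.finrank_fintype_fun_eq_card, Fintype.card_fin]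
          norm_num)
    obtain ⟨w, hw, hw0⟩ := Submodule.exists_mem_ne_zero_of_ne_bot hne
    rw [LinearMap.mem_ker] at hw
    exact ⟨w, congrArg Prod.fst hw, congrArg Prod.snd hw, hw0⟩
  have hwc : ∀ z, w z ≠ 0 → c z * β = β' := by
    intro z hz
    have h := he w z
    rw [S.hom_perp hg hβ hw, S.hom_perp hg' hβ' hw', Pi.smul_apply, Pi.smul_apply, smul_eq_mul,
      smul_eq_mul] at h
    exact mul_right_cancel₀ hz (by linear_combination -h)
  obtain ⟨ω, hωdef⟩ : ∃ ω, ω = β' / β := ⟨_, rfl⟩
  have hβ'ω : β' = ω * β := by rw [hωdef, div_mul_cancel₀ _ hβ0]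
  have hwc' : ∀ z, w z ≠ 0 → c z = ω := fun z hz => by
    rw [hωdef, eq_div_iff hβ0]; exact hwc z hz
  have hrc := S.off_coord hgood hq hq5 hg hoff
  have hr'c := S.off_coord hgood hq hq5 hg' hoff'
  have hconst : ∀ z, c z = ω := by
    by_contra hne
    push Not at hne
    obtain ⟨i, hi⟩ := hne
    have hwi : w i = 0 := not_not.1 fun h => hi (hwc' i h)
    obtain ⟨j, hji⟩ := exists_ne i
    obtain ⟨k, hki, hkj, hall⟩ := exists_third i j hji.symm
    -- both other coordinates of `w` are non-zero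
    have hboth : ∀ a b : Fin 3, (∀ y, y = i ∨ y = a ∨ y = b) → i ≠ a → i ≠ b → a ≠ b → w a ≠ 0 := by
      intro a b hab' hia hib hab h
      have hwb : w = w b • bas b := funext fun y => by
        rcases hab' y with rfl | rfl | rfl
        · rw [hwi]; simp [bas_ne hib]
        · rw [h]; simp [bas_ne hab]
        · simp
      rw [hwb, H_smul_left, H_bas_left hF] at hw
      rcases mul_eq_zero.1 hw with h' | h'
      · exact hw0 (by rw [hwb, h', zero_smul])
      · exact hrc b (eq_zero_of_pow_eq_zero h')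
    have hcj : c j = ω := hwc' j (hboth j k hall hji.symm hki.symm hkj.symm)
    have hck : c k = ω := hwc' k (hboth k j (fun y => (hall y).imp_right Or.symm) hki.symm hji.symm hkj)
    -- a vector orthogonal to the centre, with non-zero coordinates at `i` and `j`
    set x : Vec := bas j - (r j ^ q / r i ^ q) • bas i with hx
    have hxr : H x r = 0 := by
      rw [hx, H_sub_left, H_smul_left, H_bas_left hF, H_bas_left hF,
        div_mul_cancel₀ _ (pow_ne_zero _ (hrc i)), sub_self]
    have hxk : x k = 0 := by simp [hx, bas_ne hkj, bas_ne hki]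
    have hxi : x i ≠ 0 := by simp [hx, bas_ne hji.symm, show r i ≠ 0 from hrc i, show r j ≠ 0 from hrc j]
    have h1 := he x i
    have h2 := he x k
    rw [S.hom_perp hg hβ hxr, S.act_hom hg' hβ', ← hr', Pi.add_apply, Pi.smul_apply, Pi.smul_apply, Pi.smul_apply,
      smul_eq_mul, smul_eq_mul, smul_eq_mul] at h1 h2
    rw [hxk, hck] at h2
    rw [mul_zero, mul_zero, mul_zero, zero_add] at h2
    rw [(mul_eq_zero.1 h2).resolve_right (hr'c k), zero_mul, add_zero, hβ'ω] at h1
    exact hi (mul_right_cancel₀ (mul_ne_zero hβ0 hxi) (by linear_combination -h1))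
  refine ⟨ω, ?_, hconst, hβ'ω, ?_⟩
  · rw [prod_zero_one_two, hconst, hconst, hconst] at hc
    linear_combination hc
  have hω0 : ω ≠ 0 := fun h => by rw [prod_zero_one_two, hconst, h] at hc; simp at hc
  have hk : kap β ≠ 0 := fun h => hβ3 (by
    rw [kap, sub_eq_zero] at h
    have h' := mul_inv_cancel₀ (mul_ne_zero hβ0 hβ0)
    rw [h] at h'
    linear_combination h')
  have hvec : act (hom q g' β') r = ω • act (hom q g β) r := funext fun z => by
    rw [he r z, hconst, Pi.smul_apply, smul_eq_mul]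
  rw [S.act_hom hg' hβ', S.act_hom hg hβ, ← hr, ← hr', S.H_r hg, mul_one, smul_add, smul_smul, smul_smul,
    ← hβ'ω, add_right_inj] at hvec
  have hne : kap β' * H r r' ≠ 0 := fun h => by
    rw [h, zero_smul] at hvec
    exact hrc 0 ((smul_eq_zero.1 (congrFun hvec.symm 0)).resolve_left (mul_ne_zero hω0 hk))
  exact ⟨(kap β' * H r r')⁻¹ * (ω * kap β), by rw [← smul_smul, ← hvec, inv_smul_smul₀ hne]⟩

end Sup

end Cfsg.Agent.Forms.Max.SU3.Frame
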