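import Mathlib
import Cfsg.Agent.Lib.Forms.Max.SU3.Frame.Count

/-!
# The count

Without a non-monomial member fixing a frame line the homology group has at most two non-trivial classes modulo
scalars, so the field has `8 ^ 2` elements; there the products of diagonal elements and homologies cover all members
moving the first frame vector off the frame, which is impossible.
-/

set_option autoImplicit false
set_option linter.unusedSectionVars false

namespace Cfsg.Agent.Forms.Max.SU3.Frame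

open Matrix Cfsg.Agent.Classical.Unitary Cfsg.Agent.Forms.Max.HermFrame

variable {F : Type*} [Field F] [Fintype F] {q : ℕ}

local notation "Vec" => (Fin 3 → F)
local notation "H" => Cfsg.hermForm 3 F q
local notation "G" => (Cfsg.GU 3 F q ⊓ Cfsg.Geo.specialLinear (Fin 3) F)

open _root_.Classical in
/-- the scalars in the diagonal group -/
noncomputable def mu3 (F : Type*) [Field F] [Fintype F] (q : ℕ) : Finset F :=
  (mu F q).filter fun a : F => a ^ 3 = 1

open _root_.Classical in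
/-- the parameters of the non-scalar homologies -/
noncomputable def del (F : Type*) [Field F] [Fintype F] (q : ℕ) : Finset F :=
  (mu F q).filter fun a : F => ¬ a ^ 3 = 1

theorem mem_mu3 {a : F} : a ∈ mu3 F q ↔ a ^ (q + 1) = 1 ∧ a ^ 3 = 1 := by simp [mu3, mem_mu]

theorem mem_del {a : F} : a ∈ del F q ↔ a ^ (q + 1) = 1 ∧ a ^ 3 ≠ 1 := by simp [del, mem_mu]

theorem card_mu3_add (hF : Fintype.card F = q ^ 2) : (mu3 F q).card + (del F q).card = q + 1 := by
  classical
  rw [mu3, del, ← card_mu hF]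
  convert Finset.card_filter_add_card_filter_not (s := mu F q) (fun a : F => a ^ 3 = 1) using 3

theorem card_mu3_le : (mu3 F q).card ≤ 3 := by
  classical
  have hX : (Polynomial.X ^ 3 - Polynomial.C 1 : Polynomial F) ≠ 0 := Polynomial.X_pow_sub_C_ne_zero (by norm_num) 1
  have hsub : mu3 F q ⊆ (Polynomial.X ^ 3 - Polynomial.C 1 : Polynomial F).roots.toFinset := fun a ha => by
    rw [Multiset.mem_toFinset, Polynomial.mem_roots hX]
    simp [(mem_mu3.1 ha).2]
  exact (Finset.card_le_card hsub).trans ((Multiset.toFinset_card_le _).trans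
    ((Polynomial.card_roots' _).trans (Polynomial.natDegree_X_pow_sub_C).le))

namespace Sup

variable (S : Sup F q) (hgood : ∀ g ∈ S.M, ∀ i, Fix i g → Mon g)
include hgood

/-- the stabiliser of a frame line is small -/
theorem card_fix_le [DecidablePred fun g : GL (Fin 3) F => g ∈ S.M ∧ Fix 0 g] [DecidableEq F] :
    (Finset.univ.filter fun g : GL (Fin 3) F => g ∈ S.M ∧ Fix 0 g).card ≤ 2 * (tor' F q).card := by
  classical
  have hF := S.hF
  have hinfo : ∀ g : GL (Fin 3) F, g ∈ S.M → Fix 0 g → ∃ p a, (p = 1 ∨ p = Equiv.swap 1 2) ∧ IsMono g p a ∧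
      (∀ z, a z ^ (q + 1) = 1) ∧ ((Equiv.Perm.sign p : ℤ) : F) * (a 0 * a 1 * a 2) = 1 := by
    intro g hg hfix
    obtain ⟨p, a, hpa, ha0⟩ := (hgood g hg 0 hfix).exists_isMono
    obtain ⟨s, hs⟩ := hfix
    have hp0 : p 0 = 0 := (smul_bas_inj (ha0 0) ((hpa 0).symm.trans hs)).1
    refine ⟨p, a, perm_fix_zero p hp0, hpa, fun z => hpa.n1 hF (S.le hg).1 z, ?_⟩
    rw [← prod_zero_one_two, ← det_mono hF (S.le hg).1 hpa, S.det_eq hg]
  refine le_trans (Finset.card_le_card_of_injOn (t := (mu F q ×ˢ mu F q) ×ˢ (Finset.univ : Finset Bool))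
    (fun g => ((act g (bas 0) 0, act g (bas 1) 1 + act g (bas 1) 2), decide (act g (bas 1) 1 = 0))) ?_ ?_) ?_
  · intro g hg
    simp only [Finset.mem_coe, Finset.mem_filter, Finset.mem_univ, true_and] at hg
    obtain ⟨p, a, hp, hpa, ha, -⟩ := hinfo g hg.1 hg.2
    simp only [Finset.coe_product, Set.mem_prod, Finset.mem_coe, Finset.mem_univ, and_true, mem_mu]
    rw [hpa 0, hpa 1]
    rcases hp with rfl | rfl <;>
      simp [bas, ha 0, ha 1, Equiv.swap_apply_of_ne_of_ne (show (0 : Fin 3) ≠ 1 by decide) (show (0 : Fin 3) ≠ 2 by decide)]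
  · intro g hg g' hg' e
    simp only [Finset.mem_coe, Finset.mem_filter, Finset.mem_univ, true_and] at hg hg'
    obtain ⟨p, a, hp, hpa, ha, hd⟩ := hinfo g hg.1 hg.2
    obtain ⟨p', a', hp', hpa', ha', hd'⟩ := hinfo g' hg'.1 hg'.2
    simp only [Prod.mk.injEq, hpa 0, hpa 1, hpa' 0, hpa' 1] at e
    have hne : a 1 ≠ 0 := n1_ne_zero (ha 1)
    have hne' : a' 1 ≠ 0 := n1_ne_zero (ha' 1)
    have h : p = p' ∧ a 0 = a' 0 ∧ a 1 = a' 1 := by
      rcases hp with rfl | rfl <;> rcases hp' with rfl | rfl <;> simp [bas, hne, hne',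
        Equiv.swap_apply_of_ne_of_ne (show (0 : Fin 3) ≠ 1 by decide) (show (0 : Fin 3) ≠ 2 by decide)] at e ⊢ <;> exact e
    obtain ⟨rfl, h0, h1⟩ := h
    have h2 : a 2 = a' 2 := by
      rw [h0, h1] at hd
      have hs : ((Equiv.Perm.sign p : ℤ) : F) ≠ 0 := by
        rcases Int.units_eq_one_or (Equiv.Perm.sign p) with h | h <;> simp [h]
      exact mul_left_cancel₀ (mul_ne_zero (n1_ne_zero (ha' 0)) (n1_ne_zero (ha' 1)))
        (mul_left_cancel₀ hs (hd.trans hd'.symm))
    refine ext_bas fun z => ?_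
    rw [hpa z, hpa' z]
    fin_cases z
    · exact congrArg (· • _) h0
    · exact congrArg (· • _) h1
    · exact congrArg (· • _) h2
  · rw [Finset.card_product, Finset.card_product, card_mu hF, Finset.card_univ, Fintype.card_bool]
    have := le_card_tor' hF
    omega

set_option maxHeartbeats 1200000 in
/-- the count -/
theorem count (hq : 3 ≤ q) (hq5 : q ≠ 5) {g₁ : GL (Fin 3) F} (hg₁ : g₁ ∈ S.M) (hoff₁ : Off g₁) :
    (del F q).card ≤ 2 * (mu3 F q).card ∧ ((del F q).card = 2 * (mu3 F q).card →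
      ∀ x ∈ S.M, Off x → ∃ a ∈ tor' F q, ∃ g ∈ S.M, Off g ∧ ∃ β ∈ del F q, x = tor q a * hom q g β) := by
  classical
  have hF := S.hF
  set OF : Finset (GL (Fin 3) F) := Finset.univ.filter fun g => g ∈ S.M ∧ Off g with hOF
  have hmemOF : ∀ g, g ∈ OF ↔ g ∈ S.M ∧ Off g := fun g => by simp [hOF]
  set ST : Finset (GL (Fin 3) F) := Finset.univ.filter fun g => g ∈ S.M ∧ Fix 0 g with hST
  set dom := (tor' F q ×ˢ del F q) ×ˢ OF with hdom
  set Φ : ((Fin 3 → F) × F) × GL (Fin 3) F → GL (Fin 3) F := fun p => tor q p.1.1 * hom q p.2 p.1.2 with hΦ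
  have himg : dom.image Φ ⊆ OF := by
    intro x hx
    obtain ⟨⟨⟨a, β⟩, g⟩, hp, rfl⟩ := Finset.mem_image.1 hx
    simp only [hdom, Finset.mem_product, hmemOF, mem_del] at hp
    obtain ⟨⟨ha, hβ, hβ3⟩, hg, hoff⟩ := hp
    refine (hmemOF _).2 ⟨mul_mem (S.tor_mem ha) (S.hom_mem hg hβ), ?_⟩
    have hcoord : ∀ z : Fin 3, z ≠ 0 → act (tor q a * hom q g β) (bas 0) z ≠ 0 := by
      intro z hz
      have hk : kap β ≠ 0 := fun h => hβ3 (by
        rw [kap, sub_eq_zero] at h
        have h' := mul_inv_cancel₀ (mul_ne_zero (n1_ne_zero hβ) (n1_ne_zero hβ))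
        rw [h] at h'
        linear_combination h')
      rw [act_mul, S.tor_act ha, S.act_hom hg hβ, H_bas_left hF, Pi.add_apply, Pi.smul_apply, Pi.smul_apply,
        bas_ne hz, smul_zero, zero_add, smul_eq_mul]
      exact mul_ne_zero (n1_ne_zero ((mem_tor'.1 ha).1 z)) (mul_ne_zero
        (mul_ne_zero hk (pow_ne_zero _ (S.off_coord hgood hq hq5 hg hoff 0))) (S.off_coord hgood hq hq5 hg hoff z))
    exact off_of_two (l := 1) (m := 2) (by decide) (hcoord 1 (by decide)) (hcoord 2 (by decide))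
  have hfib : ∀ x ∈ dom.image Φ, (dom.filter fun p => Φ p = x).card ≤ (mu3 F q).card * ST.card := by
    intro x hx
    obtain ⟨⟨⟨a₀, β₀⟩, g₀⟩, hp₀, rfl⟩ := Finset.mem_image.1 hx
    simp only [hdom, Finset.mem_product, hmemOF, mem_del] at hp₀
    obtain ⟨⟨ha₀, hβ₀, -⟩, hg₀, hoff₀⟩ := hp₀
    have key : ∀ p ∈ dom.filter (fun p => Φ p = Φ ((a₀, β₀), g₀)), ∃ ω : F, ω ^ 3 = 1 ∧ ω ^ (q + 1) = 1 ∧
        p.1.1 0 / a₀ 0 = ω ∧ (∀ z, p.1.1 z = ω * a₀ z) ∧ β₀ = ω * p.1.2 ∧
          g₀⁻¹ * p.2 ∈ S.M ∧ Fix 0 (g₀⁻¹ * p.2) := by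
      rintro ⟨⟨a, β⟩, g⟩ hp
      simp only [Finset.mem_filter, hdom, Finset.mem_product, hmemOF, mem_del] at hp
      obtain ⟨⟨⟨ha, hβ, hβ3⟩, hg, hoff⟩, he⟩ := hp
      simp only [hΦ] at he
      have ha₀z : ∀ z, a₀ z ≠ 0 := fun z => n1_ne_zero ((mem_tor'.1 ha₀).1 z)
      obtain ⟨ω, hω3, hconst, hβω, s, hs⟩ := S.no_coll hgood hq hq5 hg hg₀ hoff hoff₀ hβ hβ₀ hβ3
        (c := fun z => a z / a₀ z) (by rw [Finset.prod_div_distrib, (mem_tor'.1 ha).2, (mem_tor'.1 ha₀).2, div_one])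
        (fun y z => by
          have h := congrArg (fun m => act m y z) he
          simp only [act_mul, S.tor_act ha, S.tor_act ha₀] at h
          field_simp [ha₀z z]
          linear_combination -h)
      refine ⟨ω, hω3, ?_, hconst 0, fun z => by rw [← hconst z, div_mul_cancel₀ _ (ha₀z z)], hβω,
        mul_mem (inv_mem hg₀) hg, s⁻¹, ?_⟩
      · rw [← hconst 0, div_pow, (mem_tor'.1 ha).1, (mem_tor'.1 ha₀).1, div_one]
      · have hs0 : s ≠ 0 := fun h => mulVec_ne_zero g₀ (bas_ne_zero 0) (by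
          show act g₀ (bas 0) = 0
          rw [hs, h, zero_smul])
        rw [act_mul]
        conv_lhs => rw [← inv_smul_smul₀ hs0 (act g (bas 0)), ← hs]
        rw [act_smul, act_inv_act]
    rw [← Finset.card_product]
    refine Finset.card_le_card_of_injOn (fun p => (p.1.1 0 / a₀ 0, g₀⁻¹ * p.2)) ?_ ?_
    · intro p hp
      obtain ⟨ω, h1, h2, h3, -, -, h4⟩ := key p hp
      simp only [Finset.coe_product, Set.mem_prod, Finset.mem_coe, mem_mu3, h3, hST, Finset.mem_filter,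
        Finset.mem_univ, true_and]
      exact ⟨⟨h2, h1⟩, h4⟩
    · intro p hp p' hp' e
      obtain ⟨ω, h1, -, h3, ha, hb, -⟩ := key p hp
      obtain ⟨ω', -, -, h3', ha', hb', -⟩ := key p' hp'
      simp only [Prod.mk.injEq] at e
      obtain ⟨eω, eg⟩ := e
      rw [h3, h3'] at eω
      subst eω
      have hω0 : ω ≠ 0 := fun h => by rw [h] at h1; simp at h1
      refine Prod.ext (Prod.ext (funext fun z => by rw [ha, ha']) ?_) (mul_left_cancel eg)
      exact mul_left_cancel₀ hω0 (hb.symm.trans hb')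
  have h1 : (tor' F q).card * (del F q).card * OF.card ≤ (mu3 F q).card * ST.card * (dom.image Φ).card := by
    rw [← Finset.card_product, ← Finset.card_product]
    exact Finset.card_le_mul_card_image dom _ hfib
  have h2 : (del F q).card * OF.card ≤ 2 * (mu3 F q).card * (dom.image Φ).card := by
    have hT : 0 < (tor' F q).card := lt_of_lt_of_le (by positivity) (le_card_tor' hF)
    refine Nat.le_of_mul_le_mul_left ?_ hT
    calc (tor' F q).card * ((del F q).card * OF.card) = (tor' F q).card * (del F q).card * OF.card := by ring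
      _ ≤ (mu3 F q).card * ST.card * (dom.image Φ).card := h1
      _ ≤ (mu3 F q).card * (2 * (tor' F q).card) * (dom.image Φ).card :=
        Nat.mul_le_mul_right _ (Nat.mul_le_mul_left _ (S.card_fix_le hgood))
      _ = (tor' F q).card * (2 * (mu3 F q).card * (dom.image Φ).card) := by ring
  have hpos : 0 < OF.card := Finset.card_pos.2 ⟨g₁, (hmemOF g₁).2 ⟨hg₁, hoff₁⟩⟩
  have hle := Finset.card_le_card himg
  refine ⟨Nat.le_of_mul_le_mul_right (h2.trans (Nat.mul_le_mul_left _ hle)) hpos, fun heq x hx hxoff => ?_⟩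
  have hmu : 0 < (mu3 F q).card := Finset.card_pos.2 ⟨1, mem_mu3.2 ⟨one_pow _, one_pow _⟩⟩
  rw [heq] at h2
  have hsurj := Finset.eq_of_subset_of_card_le himg (Nat.le_of_mul_le_mul_left h2 (by omega))
  have hxin : x ∈ dom.image Φ := by rw [hsurj]; exact (hmemOF x).2 ⟨hx, hxoff⟩
  obtain ⟨⟨⟨a, β⟩, g⟩, hp, hxe⟩ := Finset.mem_image.1 hxin
  simp only [hdom, Finset.mem_product, hmemOF] at hp
  exact ⟨a, hp.1.1, g, hp.2.1, hp.2.2, β, hp.1.2, hxe.symm⟩

/-- the field is small -/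
theorem q_eq_eight (hq : 3 ≤ q) (hq5 : q ≠ 5) {g₁ : GL (Fin 3) F} (hg₁ : g₁ ∈ S.M) (hoff₁ : Off g₁) :
    q = 8 ∧ (del F q).card = 2 * (mu3 F q).card := by
  obtain ⟨hle, -⟩ := S.count hgood hq hq5 hg₁ hoff₁
  have hadd := card_mu3_add S.hF
  have h3 := card_mu3_le (F := F) (q := q)
  have hone : 1 < (mu3 F q).card := by
    by_contra h
    omega
  obtain ⟨ω, hω, hω1⟩ := Finset.exists_mem_ne hone 1
  obtain ⟨hω', hω3⟩ := mem_mu3.1 hω
  have hdvd : 3 ∣ q + 1 := by
    have := orderOf_eq_prime hω3 hω1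
    rw [← this]
    exact orderOf_dvd_of_pow_eq_one hω'
  omega

end Sup

end Cfsg.Agent.Forms.Max.SU3.Frame
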