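import Mathlib
import Cfsg.Agent.Lib.Forms.Max.SU3.Frame.Bound

/-!
# The field with `8 ^ 2` elements

All coordinates of an image off the frame would have norm one, and a diagonal element of order nine moves such an
image to one whose inner product with it has norm neither zero nor one.
-/

set_option autoImplicit false
set_option linter.unusedSectionVars false

namespace Cfsg.Agent.Forms.Max.SU3.Frame

open Matrix Cfsg.Agent.Classical.Unitary Cfsg.Agent.Forms.Max.HermFrame

variable {F : Type*} [Field F] [Fintype F] {q : ℕ}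

local notation "Vec" => (Fin 3 → F)
local notation "H" => Cfsg.hermForm 3 F q
local notation "G" => (Cfsg.GU 3 F q ⊓ Cfsg.Geo.specialLinear (Fin 3) F)

namespace Sup

variable (S : Sup F q) (hgood : ∀ g ∈ S.M, ∀ i, Fix i g → Mon g)
include hgood

set_option maxHeartbeats 800000 in
/-- two coordinates of an image off the frame have the same norm -/
theorem norms_eq (hq8 : q = 8) (h2 : (2 : F) = 0) {g : GL (Fin 3) F} (hg : g ∈ S.M) (hoff : Off g)
    (hcard : (del F q).card = 2 * (mu3 F q).card) {i j k : Fin 3} (hij : i ≠ j) (hik : i ≠ k) (hjk : j ≠ k)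
    (hall : ∀ z, z = i ∨ z = j ∨ z = k) :
    nrm q (act g (bas 0) j) = nrm q (act g (bas 0) k) := by
  classical
  have hF := S.hF
  have hq : 3 ≤ q := by omega
  have hq5 : q ≠ 5 := by omega
  obtain ⟨β, hβd⟩ : (del F q).Nonempty := Finset.card_pos.1 (by
    rw [hcard]
    have : 0 < (mu3 F q).card := Finset.card_pos.2 ⟨1, mem_mu3.2 ⟨one_pow _, one_pow _⟩⟩
    omega)
  obtain ⟨hβ, hβ3⟩ := mem_del.1 hβd
  have hrc := S.off_coord hgood hq hq5 hg hoff
  set r := act g (bas 0) with hr
  have hk : kap β ≠ 0 := fun h => hβ3 (by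
    rw [kap, sub_eq_zero] at h
    have h' := mul_inv_cancel₀ (mul_ne_zero (n1_ne_zero hβ) (n1_ne_zero hβ))
    rw [h] at h'
    linear_combination h')
  -- a transposition
  obtain ⟨n, hn, hnm, hnd⟩ := exists_mono hF (Equiv.swap j k) (fun _ => (1 : F)) (fun _ => one_pow _)
  have hnG : n ∈ G := ⟨hn, Aschbacher.mem_specialLinear.2 (by
    rw [hnd, Equiv.Perm.sign_swap hjk]
    simp only [Finset.prod_const_one, Units.val_neg, Units.val_one, Int.cast_neg, Int.cast_one, mul_one]
    linear_combination -h2)⟩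
  have hnact : ∀ y z, act n y z = y (Equiv.swap j k z) := fun y z => by
    rw [hnm.apply, one_mul, Equiv.symm_swap]
  have hxoff : Off (n * hom q g β) := by
    have hcoord : ∀ z : Fin 3, z ≠ 0 → act (n * hom q g β) (bas 0) (Equiv.swap j k z) ≠ 0 := fun z hz => by
      rw [act_mul, hnact, Equiv.swap_apply_self, S.act_hom hg hβ, H_bas_left hF, Pi.add_apply, Pi.smul_apply,
        Pi.smul_apply, bas_ne hz, smul_zero, zero_add, smul_eq_mul, ← hr]
      exact mul_ne_zero (mul_ne_zero hk (pow_ne_zero _ (hrc 0))) (hrc z)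
    exact off_of_two ((Equiv.swap j k).injective.ne (show (1 : Fin 3) ≠ 2 by decide)) (hcoord 1 (by decide))
      (hcoord 2 (by decide))
  obtain ⟨a, ha, g', hg', hoff', β', hβ'd, hx⟩ :=
    (S.count hgood hq hq5 hg hoff).2 hcard _ (mul_mem (S.mono n hnG hnm.mon) (S.hom_mem hg hβ)) hxoff
  obtain ⟨hβ', -⟩ := mem_del.1 hβ'd
  have hr'c := S.off_coord hgood hq hq5 hg' hoff'
  set r' := act g' (bas 0) with hr'
  have heq : ∀ y z, a z * act (hom q g' β') y z = act (hom q g β) y (Equiv.swap j k z) := fun y z => by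
    have h := congrArg (fun m => act m y z) hx
    simp only [act_mul, hnact, S.tor_act ha] at h
    exact h.symm
  have han : ∀ z, a z ≠ 0 := fun z => n1_ne_zero ((mem_tor'.1 ha).1 z)
  obtain ⟨w, hw, hw', hw0⟩ : ∃ w : Vec, H w r = 0 ∧ H w r' = 0 ∧ w ≠ 0 := by
    have hne := LinearMap.ker_ne_bot_of_finrank_lt (f := (hlin q r).prod (hlin q r'))
      (by rw [Module.finrank_prod, Module.finrank_self, Module.finrank_fintype_fun_eq_card, Fintype.card_fin]
          norm_num)
    obtain ⟨w, hw, hw0⟩ := Submodule.exists_mem_ne_zero_of_ne_bot hne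
    rw [LinearMap.mem_ker] at hw
    exact ⟨w, congrArg Prod.fst hw, congrArg Prod.snd hw, hw0⟩
  have hwa : ∀ z, a z * β' * w z = β * w (Equiv.swap j k z) := fun z => by
    have h := heq w z
    rw [S.hom_perp hg hβ hw, S.hom_perp hg' hβ' hw', Pi.smul_apply, Pi.smul_apply, smul_eq_mul, smul_eq_mul] at h
    linear_combination h
  have hsi : Equiv.swap j k i = i := Equiv.swap_apply_of_ne_of_ne hij hik
  have hwi : w i = 0 := by
    by_contra hwi
    have hi := hwa i
    rw [hsi] at hi
    have hβ'i : a i * β' = β := mul_right_cancel₀ hwi hi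
    set x : Vec := bas j - (r j ^ q / r i ^ q) • bas i with hx'
    have hxr : H x r = 0 := by
      rw [hx', H_sub_left, H_smul_left, H_bas_left hF, H_bas_left hF,
        div_mul_cancel₀ _ (pow_ne_zero _ (hrc i)), sub_self]
    have hxj : x j = 1 := by simp [hx', bas_ne hij.symm]
    have hxk : x k = 0 := by simp [hx', bas_ne hjk.symm, bas_ne hik.symm]
    have h1 := heq x i
    have h3 := heq x k
    rw [S.hom_perp hg hβ hxr, S.act_hom hg' hβ', ← hr', Pi.add_apply, Pi.smul_apply, Pi.smul_apply,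
      Pi.smul_apply, smul_eq_mul, smul_eq_mul, smul_eq_mul] at h1 h3
    rw [hsi, ← hβ'i] at h1
    rw [Equiv.swap_apply_right, hxj, hxk] at h3
    have hK : kap β' * H x r' * r' i = 0 := mul_left_cancel₀ (han i) (by linear_combination h1)
    rw [(mul_eq_zero.1 hK).resolve_right (hr'c i), zero_mul, mul_zero, add_zero, mul_zero, mul_one] at h3
    exact n1_ne_zero hβ h3.symm
  have hwj' := hwa j
  have hwk' := hwa k
  rw [Equiv.swap_apply_left] at hwj'
  rw [Equiv.swap_apply_right] at hwk'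
  have hNw : nrm q (w j) = nrm q (w k) := by
    have h := congrArg (nrm q) hwj'
    rw [nrm_mul, nrm_mul, nrm_mul, nrm_eq (a j), nrm_eq β', nrm_eq β, (mem_tor'.1 ha).1 j, hβ', hβ,
      one_mul, one_mul, one_mul] at h
    exact h
  have hwj : w j ≠ 0 := fun h => hw0 (funext fun z => by
    rcases hall z with rfl | rfl | rfl
    · exact hwi
    · exact h
    · rw [h, nrm_eq_zero.2 rfl] at hNw
      exact nrm_eq_zero.1 hNw.symm)
  have hconj : ∀ y : F, nrm q (y ^ q) = nrm q y := fun y => by rw [nrm, pow_qq hF, mul_comm, nrm]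
  have hsum : w j * r j ^ q = -(w k * r k ^ q) := by
    have h : H w r = ∑ z, w z * r z ^ q := rfl
    rw [hw, sum_three hij hik hjk hall, hwi, zero_mul, zero_add] at h
    linear_combination -h
  have h := congrArg (nrm q) hsum
  rw [nrm_mul, hconj, neg_eq_neg_one_mul, nrm_mul, nrm_eq (-1 : F), n1_neg_one hF, one_mul, nrm_mul, hconj, ← hNw] at h
  exact mul_left_cancel₀ (fun e => hwj (nrm_eq_zero.1 e)) h

/-- no member moves the first frame vector off the frame -/
theorem not_off (hq : 3 ≤ q) (hq5 : q ≠ 5) {g : GL (Fin 3) F} (hg : g ∈ S.M) : ¬ Off g := by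
  classical
  intro hoff
  have hF := S.hF
  obtain ⟨hq8, hcard⟩ := S.q_eq_eight hgood hq hq5 hg hoff
  subst hq8
  have h2 : (2 : F) = 0 := by
    have h := Nat.cast_card_eq_zero F
    rw [hF] at h
    rw [show (8 : ℕ) ^ 2 = 2 ^ 6 by norm_num, Nat.cast_pow, Nat.cast_ofNat] at h
    exact eq_zero_of_pow_eq_zero h
  set r := act g (bas 0) with hr
  have e01 := S.norms_eq hgood rfl h2 hg hoff hcard (i := 2) (j := 0) (k := 1) (by decide) (by decide) (by decide) (by decide)
  have e12 := S.norms_eq hgood rfl h2 hg hoff hcard (i := 0) (j := 1) (k := 2) (by decide) (by decide) (by decide) (by decide)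
  have hsum := S.H_r hg
  rw [← hr, H_self, Fin.sum_univ_three] at hsum
  have hN : ∀ z, r z * r z ^ 8 = 1 := by
    rw [← hr] at e01 e12
    have h0 : nrm 8 (r 0) = 1 := by linear_combination hsum - nrm 8 (r 0) * h2 + 2 * e01 + e12
    intro z
    show nrm 8 (r z) = 1
    fin_cases z
    · exact h0
    · exact e01.symm.trans h0
    · exact e12.symm.trans (e01.symm.trans h0)
  obtain ⟨ζ, hζ, hmin⟩ := exists_gen hF
  have hz9 : ζ ^ 9 = 1 := hζ
  set a : Vec := ![ζ, ζ ^ 2, ζ ^ 6] with hadef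
  have ha : a ∈ tor' F 8 := by
    refine mem_tor'.2 ⟨fun z => ?_, ?_⟩
    · fin_cases z
      · exact hζ
      · show (ζ ^ 2) ^ (8 + 1) = 1
        rw [← pow_mul, mul_comm, pow_mul, hζ, one_pow]
      · show (ζ ^ 6) ^ (8 + 1) = 1
        rw [← pow_mul, mul_comm, pow_mul, hζ, one_pow]
    · rw [prod_zero_one_two]
      show ζ * ζ ^ 2 * ζ ^ 6 = 1
      linear_combination hz9
  set g' := g⁻¹ * tor 8 a * g with hg'
  have hg'M : g' ∈ S.M := mul_mem (mul_mem (inv_mem hg) (S.tor_mem ha)) hg
  have hy : act g' (bas 0) 0 = ζ + ζ ^ 2 + ζ ^ 6 := by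
    rw [hg', act_mul, act_mul, ← S.H_bas_act hg, ← hr]
    have h : Cfsg.hermForm 3 F 8 (act (tor 8 a) r) r = ∑ z, act (tor 8 a) r z * r z ^ 8 := rfl
    rw [h, Fin.sum_univ_three, S.tor_act ha, S.tor_act ha, S.tor_act ha]
    show ζ * r 0 * r 0 ^ 8 + ζ ^ 2 * r 1 * r 1 ^ 8 + ζ ^ 6 * r 2 * r 2 ^ 8 = _
    linear_combination ζ * hN 0 + ζ ^ 2 * hN 1 + ζ ^ 6 * hN 2
  have hP : nrm 8 (act g' (bas 0) 0) = 1 + ζ + ζ ^ 8 := by
    rw [hy, nrm, HermStd.add_pow_q hF, HermStd.add_pow_q hF, ← pow_mul, ← pow_mul,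
      show ζ ^ (2 * 8) = ζ ^ 9 * ζ ^ 7 by ring, show ζ ^ (6 * 8) = (ζ ^ 9) ^ 5 * ζ ^ 3 by ring, hz9,
      one_pow, one_mul, one_mul]
    linear_combination (3 + ζ + ζ ^ 5 + ζ ^ 4) * hz9 + (1 + ζ ^ 5 + ζ ^ 4) * h2
  have h01 : nrm 8 (act g' (bas 0) 0) = 0 ∨ nrm 8 (act g' (bas 0) 0) = 1 := by
    by_cases h : Off g'
    · have f01 := S.norms_eq hgood rfl h2 hg'M h hcard (i := 2) (j := 0) (k := 1) (by decide) (by decide) (by decide) (by decide)
      have f12 := S.norms_eq hgood rfl h2 hg'M h hcard (i := 0) (j := 1) (k := 2) (by decide) (by decide) (by decide) (by decide)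
      have hs := S.H_r hg'M
      rw [H_self, Fin.sum_univ_three] at hs
      exact Or.inr (by linear_combination hs - nrm 8 (act g' (bas 0) 0) * h2 + 2 * f01 + f12)
    · simp only [Off] at h
      push Not at h
      obtain ⟨z, s, hs⟩ := h
      by_cases hz : z = 0
      · subst hz
        right
        have h1 := S.H_r hg'M
        rw [hs, H_smul_left, H_smul_right, H_bas_self hF, mul_one] at h1
        rw [hs, Pi.smul_apply, bas_self, smul_eq_mul, mul_one]
        exact h1
      · left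
        rw [hs, Pi.smul_apply, bas_ne (Ne.symm hz), smul_zero]
        exact nrm_eq_zero.2 rfl
  rw [hP] at h01
  have hζ0 : ζ ≠ 0 := n1_ne_zero hζ
  rcases h01 with h | h
  · refine hmin 3 (by norm_num) (by norm_num) ?_
    linear_combination (ζ - 1) * (ζ * h) - (ζ - 1) * hz9
  · refine hmin 2 (by norm_num) (by norm_num) ?_
    linear_combination ζ * h - hz9 - h2

end Sup

end Cfsg.Agent.Forms.Max.SU3.Frame
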