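import Mathlib
import Cfsg.Agent.Lib.Forms.Max.SU3.Frame.Eight

/-!
# Frame stabilisers are maximal in the three-dimensional special unitary group
-/

set_option autoImplicit false
set_option linter.unusedSectionVars false

namespace Cfsg.Agent.Forms.Max.SU3.Frame

open Matrix Cfsg.Agent.Classical.Unitary Cfsg.Agent.Forms.Max.HermFrame

variable {F : Type*} [Field F] [Fintype F] {q : ℕ}

local notation "Vec" => (Fin 3 → F)
local notation "H" => Cfsg.hermForm 3 F q
local notation "G" => (Cfsg.GU 3 F q ⊓ Cfsg.Geo.specialLinear (Fin 3) F)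

theorem exists_swap (hF : Fintype.card F = q ^ 2) {l m : Fin 3} (hlm : l ≠ m) :
    ∃ n ∈ G, Mon n ∧ ∃ c : F, c ≠ 0 ∧ act n (bas l) = c • bas m := by
  classical
  set a : Vec := Function.update (fun _ => (1 : F)) l (-1) with ha
  have han : ∀ z, a z ^ (q + 1) = 1 := fun z => by
    rcases eq_or_ne z l with rfl | hz
    · rw [ha, Function.update_self]; exact n1_neg_one hF
    · rw [ha, Function.update_of_ne hz, one_pow]
  obtain ⟨n, hn, hnm, hnd⟩ := exists_mono hF (Equiv.swap l m) a han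
  refine ⟨n, ⟨hn, Aschbacher.mem_specialLinear.2 ?_⟩, hnm.mon, a l, n1_ne_zero (han l), ?_⟩
  · rw [hnd, Equiv.Perm.sign_swap hlm, Finset.prod_eq_single l (fun z _ hz => by
      rw [ha, Function.update_of_ne hz]) (by simp), ha, Function.update_self]
    simp
  · rw [hnm l, Equiv.swap_apply_left]

theorem exists_not_mon (hF : Fintype.card F = q ^ 2) (hq : 3 ≤ q) : ∃ g ∈ G, ¬ Mon g := by
  classical
  obtain ⟨ξ, hξ⟩ := Unitary.exists_norm hF (d := (-1 : F)) (by
    rw [← HermStd.qHom_apply hF, map_neg, map_one])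
  have hξ0 : ξ ≠ 0 := fun h => by rw [h, mul_zero] at hξ; exact neg_ne_zero.2 one_ne_zero hξ.symm
  obtain ⟨c, hc0, hc1, hc⟩ : ∃ c : F, c ≠ 0 ∧ 1 + c ≠ 0 ∧ c + c ^ q = 0 := by
    obtain ⟨c₀, hc₀0, hc₀⟩ := exists_traceZero hF
    by_cases h : 1 + c₀ = 0
    swap
    · exact ⟨c₀, hc₀0, h, hc₀⟩
    obtain ⟨t, ht0, ht⟩ : ∃ t : F, t ≠ 0 ∧ t ^ (q + 1) ≠ 1 := by
      by_contra hc
      push Not at hc
      have hsub : Finset.univ.erase (0 : F) ⊆ mu F q := fun t ht => mem_mu.2 (hc t (Finset.ne_of_mem_erase ht))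
      have := Finset.card_le_card hsub
      rw [Finset.card_erase_of_mem (Finset.mem_univ _), Finset.card_univ, hF, card_mu hF] at this
      have : 3 * q ≤ q ^ 2 := by rw [pow_two]; exact Nat.mul_le_mul_right _ hq
      omega
    have htq : (t ^ (q + 1)) ^ q = t ^ (q + 1) := by rw [pow_succ, mul_pow, pow_qq hF, mul_comm]
    refine ⟨t ^ (q + 1) * c₀, mul_ne_zero (pow_ne_zero _ ht0) hc₀0, fun e => ht ?_, ?_⟩
    · exact mul_right_cancel₀ hc₀0 (by linear_combination e - h)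
    · rw [mul_pow, htq]
      linear_combination t ^ (q + 1) * hc₀
  set u : Vec := bas 1 + ξ • bas 2 with hu
  have huu : H u u = 0 := by
    rw [hu]
    simp only [H_add_left, H_add_right hF, H_smul_left, H_smul_right, H_bas hF,
      if_neg (show ¬ (1 : Fin 3) = 2 by decide), if_neg (show ¬ (2 : Fin 3) = 1 by decide), if_true]
    linear_combination hξ
  obtain ⟨T, hT, hTx⟩ := Unitary.exists_tv hF huu hc
  refine ⟨T, hT, fun hm => ?_⟩
  obtain ⟨z, s, hs⟩ := hm 1
  rw [act, hTx, H_bas_left hF] at hs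
  have h1 := congrFun hs 1
  have h2 := congrFun hs 2
  simp [hu] at h1 h2
  by_cases hz : z = 1
  · subst hz
    simp [hc0, hξ0] at h2
  · simp [bas_ne (Ne.symm hz), hc1] at h1

/-- a subgroup properly containing the monomial elements is everything -/
theorem Sup.top (S : Sup F q) (hq : 3 ≤ q) (hq5 : q ≠ 5) {g : GL (Fin 3) F} (hg : g ∈ S.M) (hgm : ¬ Mon g) :
    G ≤ S.M := by
  classical
  have hF := S.hF
  by_cases hgood : ∀ h ∈ S.M, ∀ i, Fix i h → Mon h
  · exfalso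
    obtain ⟨l, hl⟩ : ∃ l, ∀ z a, act g (bas l) ≠ a • bas z := by
      simp only [Mon] at hgm
      push Not at hgm
      exact hgm
    obtain ⟨n, hn, hnl⟩ : ∃ n ∈ S.M, ∃ c : F, c ≠ 0 ∧ act n (bas 0) = c • bas l := by
      rcases eq_or_ne 0 l with rfl | h0
      · exact ⟨1, one_mem _, 1, one_ne_zero, by rw [act_one, one_smul]⟩
      · obtain ⟨n, hn, hnm, h⟩ := exists_swap hF h0
        exact ⟨n, S.mono n hn hnm, h⟩
    obtain ⟨c, hc, hnc⟩ := hnl
    refine S.not_off hgood hq hq5 (mul_mem hg hn) fun z a e => hl z (c⁻¹ * a) ?_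
    rw [act_mul, hnc, act_smul] at e
    rw [← smul_smul, ← e, inv_smul_smul₀ hc]
  · push Not at hgood
    obtain ⟨h, hh, i, hfix, hhm⟩ := hgood
    obtain ⟨m, him⟩ := exists_ne i
    obtain ⟨n, hn, hnm, c, hc, hnc⟩ := exists_swap hF him.symm
    refine Subspace.sl_le_of_line hF rfl hq S.le (w := bas i) (by rw [H_bas_self hF]; exact one_ne_zero)
      (S.line_centres hq hh hfix hhm) (S.mono n hn hnm) fun hmem => ?_
    obtain ⟨s, hs⟩ := Submodule.mem_span_singleton.1 hmem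
    have e := congrFun (hs.trans hnc) m
    simp [bas_ne him] at e
    exact hc e.symm

/-- frame stabilisers are maximal -/
theorem maximal (q : ℕ) (hF : Fintype.card F = q ^ 2) (hq : 3 ≤ q) :
    q ≠ 5 → ∀ D : Fin 3 → Submodule F (Fin 3 → F),
      Cfsg.Geo.IsNondegenerateMDecomposition (Cfsg.hermForm 3 F q) 1 D →
      Cfsg.Geo.IsMaximalIn (Cfsg.GU 3 F q ⊓ Cfsg.Geo.specialLinear (Fin 3) F)
        (Cfsg.Geo.decompositionStabilizer D ⊓ (Cfsg.GU 3 F q ⊓ Cfsg.Geo.specialLinear (Fin 3) F)) := by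
  intro hq5 D hD
  obtain ⟨idx, P, hP, hPD⟩ := exists_coordinates hF hD
  have htr : ∀ g : GL (Fin 3) F, Mon g ↔ P * g * P⁻¹ ∈ Cfsg.Geo.decompositionStabilizer D := by
    intro g
    rw [← blockMon_iff_mon hF idx]
    have hcancel : ∀ u : Vec, act (P * g * P⁻¹) (act P u) = act P (act g u) := fun u => by
      rw [act_mul, act_mul, act_inv_act]
    constructor
    · rintro ⟨σ, hσ⟩
      refine ⟨σ, fun i => Submodule.eq_of_le_of_finrank_eq (fun z hz => ?_) (by
        rw [finrank_img, hD.decomp.finrank_eq, hD.decomp.finrank_eq])⟩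
      obtain ⟨x, hx, rfl⟩ := mem_img.1 hz
      rw [← hPD] at hx ⊢
      obtain ⟨u, hu, rfl⟩ := mem_img.1 hx
      show act (P * g * P⁻¹) (act P u) ∈ _
      rw [hcancel]
      exact mulVec_mem_img (hσ i u hu)
    · rintro ⟨σ, hσ⟩
      refine ⟨σ, fun i u hu => ?_⟩
      have h : act (P * g * P⁻¹) (act P u) ∈ D (σ i) := by
        rw [← hσ i]
        exact mulVec_mem_img (by rw [← hPD]; exact mulVec_mem_img hu)
      rw [hcancel, ← hPD] at h
      obtain ⟨x, hx, he⟩ := mem_img.1 h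
      exact mulVec_inj P he ▸ hx
  refine Max.isMaximalIn_of inf_le_right (fun hle => ?_) fun M hM hMK g hgM hg => ?_
  · obtain ⟨T, hT, hTm⟩ := exists_not_mon hF hq
    exact hTm ((htr T).2 (hle (conj_SUn hP hT)).1)
  set K : Subgroup (GL (Fin 3) F) := M.comap (MulAut.conj P).toMonoidHom with hK
  have hmemK : ∀ x, x ∈ K ↔ P * x * P⁻¹ ∈ M := fun x => Iff.rfl
  have hKS : K ≤ Cfsg.GU 3 F q ⊓ Cfsg.Geo.specialLinear (Fin 3) F := fun x hx => by
    have := conj_SUn (inv_mem hP) (hMK ((hmemK x).1 hx))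
    rwa [show P⁻¹ * (P * x * P⁻¹) * P⁻¹⁻¹ = x by group] at this
  let S : Sup F q := ⟨hF, K, hKS, fun x hx hxm => (hmemK x).2 (hM ⟨(htr x).1 hxm, conj_SUn hP hx⟩)⟩
  set g' := P⁻¹ * g * P with hg'
  have hgg : P * g' * P⁻¹ = g := by rw [hg']; group
  have hg'K : g' ∈ S.M := (hmemK g').2 (by rw [hgg]; exact hgM)
  have hg'm : ¬ Mon g' := fun h => hg ⟨hgg ▸ (htr g').1 h, hMK hgM⟩
  intro x hx
  have := S.top hq hq5 hg'K hg'm (conj_SUn (inv_mem hP) hx)
  rw [show P⁻¹⁻¹ = P from inv_inv P] at this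
  have h2 := (hmemK _).1 this
  rwa [show P * (P⁻¹ * x * P) * P⁻¹ = x by group] at h2

end Cfsg.Agent.Forms.Max.SU3.Frame
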